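import Cfsg.Agent.H492.IMJ3

/-!
# A degree of `J3` divisible by 4 (helper652)

Linear programming on helper417's columns shows that some degree is divisible by 4.
-/

set_option autoImplicit false
set_option maxRecDepth 100000

namespace Cfsg.Agent.H652.Four

open Cfsg Cfsg.Agent Cfsg.Agent.H33
open Cfsg.Agent.H417 Cfsg.Agent.H417.JThreeLP

universe u

/-- certificate for 4 -/
def y4J3 : List ℤ := [
  660678140201573760, 660678140201573760, -373030452402108898320, 173972299863146873480,
  -650617927314884539780, -173972299863146873480, 58952174868495159125, 260246116150830,
  660678140201573760, 660678140201573760, -73839809603818915184136, 108152475113204483573892,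
  660678140201573760, 118436987941641117581595, 25070375855863290, -51069237755081460376560,
  660678140201573760, 660678140201573760, 565400000443398830877720, 312648619881002003686920,
  -53090207694769320, -370743394100777838917280, -529998890317485060682560,
  51023762406869358146880, -313805302399307409026112, 188765182914735360, 660678140201573760,
  838417426290412545929520, 389232374492079964374984, 660678140201573760,
  -1549473179805956720236320, 660678140201573760, 188765182914735360, 660678140201573760,
  660678140201573760, -57247836803419666128480, 660678140201573760, 660678140201573760,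
  660678140201573760, 660678140201573760, 1244446701475438795447680]

theorem mod_four {ι : Type*} [Fintype ι] {V : ι → Fin 8 → ℤ} (h : Hyp V) : ∃ χ, V χ 0 % 4 = 0 :=
  H492.IMJ3.exists_mod h 4 y4J3 (by decide +kernel) (by decide +kernel)

theorem im4_J3 {S : Type u} [Group S] (h : Spor.IsoJ3 S) : H33.IM 4 S := by
  have hcard := (H898.J3Cent.base h).2.1
  have hfin : Finite S := Nat.finite_of_card_ne_zero (by rw [hcard]; norm_num)
  have := Cfsg.Agent.Characters.Core.finite_irr (G := S)
  let _ := Fintype.ofFinite (IrrCharacter S)
  obtain ⟨V, hdg, hV⟩ := JThreeDeg.hyp h
  obtain ⟨χ, hχ⟩ := mod_four hV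
  refine ⟨χ, ?_⟩
  rw [← H492.IMJ3.dg_eq_charDegree]
  have := hdg χ
  omega

end Cfsg.Agent.H652.Four
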