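import Cfsg.Agent.H843.IMC.Co2A
import Cfsg.Agent.H417.RecogMathieu
import Cfsg.Agent.H417.DegMTwentyThree

/-!
# Degrees divisible by 4: `M23`, `Co2` (helper652)

`M23` has degree 2024 (helper417), `Co2` has degree 2024 (helper843).
-/

set_option autoImplicit false

namespace Cfsg.Agent.H652.Four

open Cfsg Cfsg.Agent Cfsg.Agent.H33

universe u

theorem im4_M23 {S : Type u} [Group S] (h : Spor.IsoM23 S) : H33.IM 4 S := by
  have h1 := H417.RecogMathieu.isM23 h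
  have h2 : 0 < Nat.card S := by rw [h1.2]; norm_num
  have := Nat.finite_of_card_ne_zero h2.ne'
  obtain ⟨χ, hχ⟩ := H417.DegMTwentyThree.mem_2024 h1
  refine ⟨χ, ?_⟩
  rw [hχ]
  decide

theorem im4_Co2 {S : Type u} [Group S] (h : Spor.IsoCo2 S) : H33.IM 4 S := by
  obtain ⟨e⟩ := h
  refine IM.of_equiv e ?_
  obtain ⟨χ, hχ⟩ := H843.IMC.Co2A.hasDeg_2024_275.1
  refine ⟨χ, ?_⟩
  rw [hχ]
  decide

end Cfsg.Agent.H652.Four
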