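import Cfsg.Agent.H652.Four.Base
import Cfsg.Agent.H652.Four.RowsB
import Cfsg.Agent.H652.Four.RowJ3
import Cfsg.Agent.H652.Four.RowTh
import Cfsg.Agent.H652.Four.RowJ4
import Cfsg.Agent.H652.Four.LyRow
import Cfsg.Agent.H221.FourIM
import Cfsg.Agent.H654.FourRows
import Cfsg.Agent.H287.Blk.MTw
import Cfsg.Agent.H287.Blk.CoThree
import Cfsg.Agent.H287.Blk.HS
import Cfsg.Agent.H287.Blk.HN
import Cfsg.Agent.H52.FourMcL
import Cfsg.Agent.H52.FourRu
import Cfsg.Agent.H326.Four.RowSuz
import Cfsg.Agent.H326.Four.RowHe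
import Cfsg.Agent.H326.Four.RowON
import Cfsg.Agent.H686.Four.Co1
import Cfsg.Agent.H657.FourFi.Fi22
import Cfsg.Agent.H657.FourFi.Fi23
import Cfsg.Agent.H657.FourFi.Fi24
import Cfsg.Agent.H648.Loc.RowB
import Cfsg.Agent.H648.Loc.RowM

/-!
# Every sporadic simple group has an irreducible degree divisible by 4
-/

set_option autoImplicit false

namespace Cfsg.Agent.H652.Four

open Cfsg

universe u

/-- **4 divides a degree of every sporadic group.** -/
theorem im4_sporadic {S : Type u} [Group S] [Finite S] (h : IsSporadicGroup S) : H33.IM 4 S := by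
  rcases h with h | h | h | h | h | h | h | h | h | h | h | h | h | h | h | h | h | h | h | h | h |
    h | h | h | h | h
  · exact (H654.FourRows.loc_M11 h).im4
  · exact (H287.Blk.loc_M12 h).im4
  · exact H221.FourIM.im4_M22 h
  · exact im4_M23 h
  · exact H221.FourIM.im4_M24 h
  · exact (H654.FourRows.loc_J1 h).im4
  · exact (H654.FourRows.loc_J2 h).im4
  · exact im4_J3 h
  · exact im4_J4 h
  · exact (H686.Four.CoOne.loc_Co1 h).im4
  · exact im4_Co2 h
  · exact (H287.Blk.loc_Co3 h).im4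
  · exact (H52.FourMcL.loc_McL h).im4
  · exact (H287.Blk.loc_HS h).im4
  · exact (H326.Four.RowSuz.loc_Suz h).im4
  · exact (H326.Four.RowHe.loc_He h).im4
  · exact (H52.FourRu.loc_Ru h).im4
  · exact (H326.Four.RowON.loc_ON h).im4
  · exact im4_Ly h
  · exact (H657.FourFi.loc_Fi22 h).im4
  · exact (H657.FourFi.loc_Fi23 h).im4
  · exact (H657.FourFi.loc_Fi24 h).im4
  · exact (H287.Blk.loc_HN h).im4
  · exact RowTh.im4_Th h
  · exact (H648.Loc.loc_B h).im4
  · exact (H648.Loc.loc_M h).im4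

end Cfsg.Agent.H652.Four
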