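import Cfsg.Agent.H652.Four.LieA
import Cfsg.Agent.H652.Four.SporA
import Cfsg.Agent.H680.Red5009
import Cfsg.Agent.H600.AltIM

/-!
# Groups none of whose character degrees is divisible by 4 (S5009)
-/

set_option autoImplicit false

namespace Cfsg.Agent.H652.Four

open Cfsg

universe u

/-- 4 divides a degree of every known simple group but `A₇`. -/
theorem four_or_seven {S : Type u} [Group S] [Finite S] (hs : IsSimpleGroup S) (h : IsKnownSimple' S)
    (hc : ¬ IsMulCommutative S) : H33.IM 4 S ∨ Nonempty (S ≃* alternatingGroup (Fin 7)) := by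
  by_cases hsp : IsSporadicGroup S
  · exact Or.inl (im4_sporadic hsp)
  · exact im4_nonsporadic hs h hc hsp

theorem im_two {S : Type u} [Group S] [Finite S] (hs : IsSimpleGroup S) (h : IsKnownSimple' S)
    (hc : ¬ IsMulCommutative S) : H33.IM 2 S := by
  rcases four_or_seven hs h hc with ⟨χ, hχ⟩ | he
  · exact ⟨χ, Dvd.dvd.trans (by norm_num) hχ⟩
  · obtain ⟨e⟩ := he
    refine H33.IM.of_equiv e ?_
    have : Fact (Nat.Prime 2) := ⟨Nat.prime_two⟩
    exact H600.AltDeg.im_alt (by norm_num) (by rw [H680.Red5009.card_A7]; norm_num)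

/-- **S5009 from the classification** -/
theorem main (hK : ∀ (X : Type u) [Group X] [Finite X] [IsSimpleGroup X], IsKnownSimple' X)
    {G : Type u} [Group G] [Finite G] (h : ∀ χ : IrrCharacter G, ¬ 4 ∣ charDegree (χ : G → ℂ)) :
    Group.IsSolvable G ∨ ∃ N : Subgroup G, ∃ hN : N.Normal, Group.IsSolvable ↥N ∧
      Nonempty (G ⧸ N ≃* ↥(alternatingGroup (Fin 7))) :=
  H680.Red5009.red (fun S _ _ hs hc => four_or_seven hs (hK S) hc) (fun S _ _ hs hc => im_two hs (hK S) hc) h

end Cfsg.Agent.H652.Four
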